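import Mathlib
import Cfsg.Agent.Lib.Helper71.Sym.Defs

/-!
# Symmetric S3-amalgam lemma, package Z: the `S3` structure of `H/Q` and basic facts on `Z`
-/

set_option autoImplicit false

namespace Cfsg.Agent.Lib.Helper21.Sym

open Cfsg.Agent.Lib.Helper71.Sym

universe u

section

variable {G : Type u} [Group G]

/-- In a finite group, an element conjugating a subgroup into itself normalizes it. -/
theorem conj_inv_mem_of_conj_mem [Finite G] {K : Subgroup G} {g : G}
    (h : ∀ a ∈ K, g * a * g⁻¹ ∈ K) : ∀ a ∈ K, g⁻¹ * a * g ∈ K := by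
  have hpow : ∀ m : ℕ, ∀ a ∈ K, g ^ m * a * (g ^ m)⁻¹ ∈ K := by
    intro m
    induction m with
    | zero =>
      intro a ha
      simpa using ha
    | succ m ih =>
      intro a ha
      have h1 := h _ (ih a ha)
      have e : g ^ (m + 1) * a * (g ^ (m + 1))⁻¹ = g * (g ^ m * a * (g ^ m)⁻¹) * g⁻¹ := by
        rw [pow_succ']
        group
      rw [e]
      exact h1
  intro a ha
  have hn : 0 < orderOf g := orderOf_pos g
  have e : g ^ (orderOf g - 1) = g⁻¹ := by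
    apply eq_inv_of_mul_eq_one_left
    rw [← pow_succ, Nat.sub_add_cancel hn, pow_orderOf_eq_one]
  have h1 := hpow (orderOf g - 1) a ha
  rwa [e, inv_inv] at h1

theorem card_mul_relIndex_of_le {H K : Subgroup G} (h : H ≤ K) :
    Nat.card ↥H * H.relIndex K = Nat.card ↥K := by
  have := Subgroup.relIndex_mul_relIndex ⊥ H K bot_le h
  rwa [Subgroup.relIndex_bot_left, Subgroup.relIndex_bot_left] at this

end

set_option maxHeartbeats 1000000 in
/-- **Package Z** of the symmetric S3-amalgam lemma. -/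
theorem pkgZ : PkgZ.{u} := by
  intro G _ _ H T Q x hA
  obtain ⟨hQT, hTH, hQn, -, hTQ, hHT, hTn, hCQ, -, -, hZ, -⟩ := hA
  have hQpos : 0 < Nat.card ↥Q := Nat.card_pos
  have hTpos : 0 < Nat.card ↥T := Nat.card_pos
  have hrelQT : Q.relIndex T = 2 := by
    have h1 := card_mul_relIndex_of_le hQT
    rw [hTQ] at h1
    exact Nat.eq_of_mul_eq_mul_left hQpos (by rw [h1, mul_comm])
  have hrelTH : T.relIndex H = 3 := by
    have h1 := card_mul_relIndex_of_le hTH
    rw [hHT] at h1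
    exact Nat.eq_of_mul_eq_mul_left hTpos (by rw [h1, mul_comm])
  have hexTQ : ∃ t ∈ T, t ∉ Q := by
    by_contra hcon
    push Not at hcon
    have hle : T ≤ Q := hcon
    have h1 : Q.relIndex T = 1 := Subgroup.relIndex_eq_one.mpr hle
    rw [hrelQT] at h1
    norm_num at h1
  have hmulQ : ∀ s ∈ T, ∀ t ∈ T, s ∉ Q → t ∉ Q → s * t ∈ Q := by
    intro s hs t ht hsQ htQ
    have hidx2 : (Q.subgroupOf T).index = 2 := hrelQT
    have h := (Subgroup.mul_mem_iff_of_index_two hidx2 (a := ⟨s, hs⟩) (b := ⟨t, ht⟩)).mpr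
      ⟨fun h' => absurd (Subgroup.mem_subgroupOf.mp h') hsQ,
        fun h' => absurd (Subgroup.mem_subgroupOf.mp h') htQ⟩
    exact Subgroup.mem_subgroupOf.mp h
  have hmaxT : ∀ K : Subgroup G, T ≤ K → K ≤ H → K = T ∨ K = H := by
    intro K hTK hKH
    have h1 := Subgroup.relIndex_mul_relIndex T K H hTK hKH
    rw [hrelTH] at h1
    have hdvd : T.relIndex K ∣ 3 := Dvd.intro _ h1
    rcases (Nat.dvd_prime Nat.prime_three).mp hdvd with h | h
    · left
      exact le_antisymm (Subgroup.relIndex_eq_one.mp h) hTK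
    · right
      rw [h] at h1
      have h2 : K.relIndex H = 1 := by omega
      exact le_antisymm hKH (Subgroup.relIndex_eq_one.mp h2)
  obtain ⟨h₀, hh₀H, t₀, ht₀T, hh₀t₀⟩ := hTn
  have hh₀T : h₀ ∉ T := fun h => hh₀t₀ (T.mul_mem (T.mul_mem h ht₀T) (T.inv_mem h))
  have hnormT : ∀ h ∈ H, (∀ t ∈ T, h * t * h⁻¹ ∈ T) → h ∈ T := by
    intro h hH hconj
    have hK : H ⊓ Subgroup.normalizer (T : Set G) = T ∨
        H ⊓ Subgroup.normalizer (T : Set G) = H :=
      hmaxT _ (le_inf hTH Subgroup.le_normalizer) inf_le_left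
    have hne : H ⊓ Subgroup.normalizer (T : Set G) ≠ H := by
      intro hEq
      have h1 : h₀ ∈ H ⊓ Subgroup.normalizer (T : Set G) := by
        rw [hEq]
        exact hh₀H
      have h2 := (Subgroup.mem_normalizer_iff.mp (Subgroup.mem_inf.mp h1).2 t₀).mp ht₀T
      exact hh₀t₀ h2
    have hK' := hK.resolve_right hne
    have hmem : h ∈ H ⊓ Subgroup.normalizer (T : Set G) := by
      refine Subgroup.mem_inf.mpr ⟨hH, ?_⟩
      rw [Subgroup.mem_normalizer_iff]
      intro a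
      refine ⟨hconj a, fun ha => ?_⟩
      have h1 := conj_inv_mem_of_conj_mem hconj _ ha
      have e : h⁻¹ * (h * a * h⁻¹) * h = a := by group
      rwa [e] at h1
    rw [hK'] at hmem
    exact hmem
  have hinter : ∀ h ∈ H, h ∉ T → ∀ t ∈ T, h * t * h⁻¹ ∈ T → t ∈ Q := by
    intro h hH hT t ht hht
    by_contra htQ
    apply hT
    apply hnormT h hH
    intro s hs
    by_cases hsQ : s ∈ Q
    · exact hQT (hQn h hH s hsQ)
    · have h1 : h * (s * t) * h⁻¹ ∈ T := hQT (hQn h hH _ (hmulQ s hs t ht hsQ htQ))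
      have e : h * s * h⁻¹ = (h * (s * t) * h⁻¹) * (h * t * h⁻¹)⁻¹ := by group
      rw [e]
      exact T.mul_mem h1 (T.inv_mem hht)
  obtain ⟨t₁, ht₁T, ht₁Q⟩ := hexTQ
  have htwo : ∃ h₁ ∈ H, ∃ h₂ ∈ H, h₁ ∉ T ∧ h₂ ∉ T ∧ h₁⁻¹ * h₂ ∉ T := by
    refine ⟨h₀, hh₀H, t₁ * h₀, H.mul_mem (hTH ht₁T) hh₀H, hh₀T, ?_, ?_⟩
    · intro h
      apply hh₀T
      have h1 := T.mul_mem (T.inv_mem ht₁T) h
      rwa [inv_mul_cancel_left] at h1
    · intro h
      apply ht₁Q
      apply hinter h₀⁻¹ (H.inv_mem hh₀H) (fun h' => hh₀T (by simpa using T.inv_mem h')) t₁ ht₁T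
      rw [inv_inv]
      rwa [← mul_assoc] at h
  have hgenQ : ∀ z ∈ T, z * z = 1 → (∀ t ∈ T, z * t = t * z) → z ∈ Q := by
    intro z hz _ hzc
    exact hCQ z (hTH hz) (fun q hq => hzc q (hQT hq))
  have hgen : ∀ z ∈ T, z * z = 1 → (∀ t ∈ T, z * t = t * z) → z ∈ Zs H T := by
    intro z hz hzz hzc
    exact Subgroup.subset_closure ⟨1, H.one_mem, z, hz, hzz, hzc, by simp⟩
  have hleQ : Zs H T ≤ Q := by
    unfold Zs
    rw [Subgroup.closure_le]
    rintro g ⟨h, hH, z, hz, hzz, hzc, rfl⟩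
    exact hQn h hH z (hgenQ z hz hzz hzc)
  have hcommQ : ∀ a ∈ Zs H T, ∀ q ∈ Q, a * q = q * a := by
    have hle : Zs H T ≤ Subgroup.centralizer (Q : Set G) := by
      unfold Zs
      rw [Subgroup.closure_le]
      rintro g ⟨h, hH, z, hz, hzz, hzc, rfl⟩
      rw [SetLike.mem_coe, Subgroup.mem_centralizer_iff]
      intro q hq
      have hq' : h⁻¹ * q * h ∈ Q := by
        have h1 := hQn h⁻¹ (H.inv_mem hH) q hq
        rwa [inv_inv] at h1
      have h1 := hzc _ (hQT hq')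
      calc q * (h * z * h⁻¹) = h * ((h⁻¹ * q * h) * z) * h⁻¹ := by group
        _ = h * (z * (h⁻¹ * q * h)) * h⁻¹ := by rw [h1]
        _ = h * z * h⁻¹ * q := by group
    intro a ha q hq
    exact (Subgroup.mem_centralizer_iff.mp (hle ha) q hq).symm
  have hconjH : ∀ h ∈ H, ∀ a ∈ Zs H T, h * a * h⁻¹ ∈ Zs H T := by
    intro h hH a ha
    unfold Zs at ha ⊢
    induction ha using Subgroup.closure_induction with
    | mem y hy =>
      obtain ⟨h', hH', z, hz, hzz, hzc, rfl⟩ := hy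
      exact Subgroup.subset_closure ⟨h * h', H.mul_mem hH hH', z, hz, hzz, hzc, by group⟩
    | one => simp
    | mul y z _ _ hy hz =>
      have e : h * (y * z) * h⁻¹ = (h * y * h⁻¹) * (h * z * h⁻¹) := by group
      rw [e]
      exact Subgroup.mul_mem _ hy hz
    | inv y _ hy =>
      have e : h * y⁻¹ * h⁻¹ = (h * y * h⁻¹)⁻¹ := by group
      rw [e]
      exact Subgroup.inv_mem _ hy
  have hsq : ∀ a ∈ Zs H T, a * a = 1 := by
    intro a ha
    unfold Zs at ha
    induction ha using Subgroup.closure_induction with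
    | mem y hy =>
      obtain ⟨h', hH', z, hz, hzz, hzc, rfl⟩ := hy
      have e : h' * z * h'⁻¹ * (h' * z * h'⁻¹) = h' * (z * z) * h'⁻¹ := by group
      rw [e, hzz]
      group
    | one => simp
    | mul y z hy' hz' hy hz =>
      have hc : z * y = y * z := hcommQ z hz' y (hleQ hy')
      calc y * z * (y * z) = y * (z * y) * z := by group
        _ = y * (y * z) * z := by rw [hc]
        _ = (y * y) * (z * z) := by group
        _ = 1 := by rw [hy, hz, one_mul]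
    | inv y _ hy =>
      have e : y⁻¹ * y⁻¹ = (y * y)⁻¹ := by group
      rw [e, hy, inv_one]
  obtain ⟨z₀, hz₀T, hz₀sq, hz₀c, h₁, hh₁H, hh₁z⟩ := hZ
  have hz₀Z : z₀ ∈ Zs H T := hgen z₀ hz₀T hz₀sq hz₀c
  have hcent : ∀ g ∈ H, (∀ a ∈ Zs H T, g * a = a * g) → g ∈ Q := by
    intro g hgH hg
    by_cases hNT : ∀ n ∈ H, (∀ a ∈ Zs H T, n * a = a * n) → n ∈ T
    · have hconjN : ∀ a ∈ Zs H T, (h₀ * g * h₀⁻¹) * a = a * (h₀ * g * h₀⁻¹) := by
        intro a ha
        have ha' : h₀⁻¹ * a * h₀ ∈ Zs H T := by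
          have h1 := hconjH h₀⁻¹ (H.inv_mem hh₀H) a ha
          rwa [inv_inv] at h1
        have h1 := hg _ ha'
        calc (h₀ * g * h₀⁻¹) * a = h₀ * (g * (h₀⁻¹ * a * h₀)) * h₀⁻¹ := by group
          _ = h₀ * ((h₀⁻¹ * a * h₀) * g) * h₀⁻¹ := by rw [h1]
          _ = a * (h₀ * g * h₀⁻¹) := by group
      exact hinter h₀ hh₀H hh₀T g (hNT g hgH hg)
        (hNT _ (H.mul_mem (H.mul_mem hh₀H hgH) (H.inv_mem hh₀H)) hconjN)
    · exfalso
      push Not at hNT
      obtain ⟨n, hnH, hnc, hnT⟩ := hNT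
      obtain ⟨K, hKmem⟩ : ∃ K : Subgroup G, ∀ y : G, y ∈ K ↔ y ∈ H ∧ z₀ * y = y * z₀ :=
        ⟨H ⊓ Subgroup.centralizer ({z₀} : Set G), fun y => by
          rw [Subgroup.mem_inf, Subgroup.mem_centralizer_iff]
          simp⟩
      have hTK : T ≤ K := fun t ht => (hKmem t).mpr ⟨hTH ht, hz₀c t ht⟩
      have hKH : K ≤ H := fun y hy => ((hKmem y).mp hy).1
      have hnK : n ∈ K := (hKmem n).mpr ⟨hnH, (hnc z₀ hz₀Z).symm⟩
      rcases hmaxT K hTK hKH with hK | hK
      · rw [hK] at hnK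
        exact hnT hnK
      · have h1 : h₁ ∈ K := by
          rw [hK]
          exact hh₁H
        exact hh₁z ((hKmem h₁).mp h1).2.symm
  have hne : Zs H T ≠ ⊥ := by
    intro hbot
    have h1 : z₀ ∈ (⊥ : Subgroup G) := by
      rw [← hbot]
      exact hz₀Z
    rw [Subgroup.mem_bot] at h1
    apply hh₁z
    rw [h1, mul_one, one_mul]
  exact ⟨hleQ, hsq, hcommQ, hconjH, hcent, hne, hgen, hinter, hmaxT, htwo,
    ⟨t₁, ht₁T, ht₁Q⟩, hmulQ⟩

end Cfsg.Agent.Lib.Helper21.Sym
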